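import Cfsg.Agent.H767.TD.Grp

/-!
# S5261: formulas in `UT K` (helper767)

Coordinates of conjugates and commutators.
-/

set_option autoImplicit false

namespace Cfsg.Agent.H767.TD

universe u

variable {K : Type u} [Field K] [Tri K]

section ops

@[simp] theorem Tr_zero : Tr (0 : K) = 0 := by simp [Tr]
@[simp] theorem Nm_zero : Nm (0 : K) = 0 := by simp [Nm]
@[simp] theorem sh_zero : sh (0 : K) = 0 := by simp [sh]
@[simp] theorem cr_zero_left (x : K) : cr 0 x = 0 := by simp [cr]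
@[simp] theorem cr_zero_right (x : K) : cr x 0 = 0 := by simp [cr]
theorem Tr_add (x y : K) : Tr (x + y) = Tr x + Tr y := by simp only [Tr, th_add]; ring
theorem Tr_sub (x y : K) : Tr (x - y) = Tr x - Tr y := by simp only [Tr, th_sub]; ring
theorem Tr_neg (x : K) : Tr (-x) = - Tr x := by simp only [Tr, th_neg]; ring
theorem th_Tr (x : K) : th (Tr x) = Tr x := by simp only [Tr, th_add, th_th_th]; ring
theorem th_Nm (x : K) : th (Nm x) = Nm x := by simp only [Nm, th_mul, th_th_th]; ring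
theorem Tr_th (x : K) : Tr (th x) = Tr x := by simp only [Tr, th_th_th]; ring
theorem Nm_mul (x y : K) : Nm (x * y) = Nm x * Nm y := by simp only [Nm, th_mul]; ring
theorem sh_mul (x y : K) : sh (x * y) = sh x * sh y := by simp only [sh, th_mul]; ring
theorem cr_comm (x y : K) : cr x y = cr y x := by simp only [cr]; ring
theorem cr_add (x y z : K) : cr x (y + z) = cr x y + cr x z := by simp only [cr, th_add]; ring
theorem cr_neg (x y : K) : cr x (-y) = - cr x y := by simp only [cr, th_neg]; ring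
theorem sh_neg (x : K) : sh (-x) = sh x := by simp only [sh, th_neg]; ring
theorem Nm_neg (x : K) : Nm (-x) = - Nm x := by simp only [Nm, th_neg]; ring
theorem mul_sh (x : K) : x * sh x = Nm x := by simp only [Nm, sh]; ring
theorem sh_sh (x : K) : sh (sh x) = Nm x * x := by simp only [sh, Nm, th_mul, th_th_th]; ring
theorem sh_add (x y : K) : sh (x + y) = sh x + cr x y + sh y := by simp only [sh, cr, th_add]; ring
theorem Nm_add (x y : K) : Nm (x + y) = Nm x + Tr (sh x * y) + Tr (x * sh y) + Nm y := by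
  simp only [Nm, Tr, sh, th_add, th_mul, th_th_th]; ring
theorem Tr_fix_mul {a : K} (ha : th a = a) (x : K) : Tr (a * x) = a * Tr x := by
  simp only [Tr, th_mul, ha]; ring
theorem Tr_mul_fix {a : K} (ha : th a = a) (x : K) : Tr (x * a) = Tr x * a := by
  simp only [Tr, th_mul, ha]; ring

end ops

/-! ### conjugates -/

theorem conj_aux {x y w : UT K} (h : w * x = x * y) : w.t = y.t ∧ w.a = y.a ∧
    w.b = y.b + x.t * y.a - y.t * x.a ∧
    w.c = y.c + sh x.t * y.a + cr x.t y.b - sh y.t * x.a - cr y.t x.b ∧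
    w.d = y.d + Nm x.t * y.a + Tr (sh x.t * y.b) + Tr (x.t * y.c) - Nm y.t * x.a - Tr (sh y.t * x.b)
      - Tr (y.t * x.c) ∧
    w.z = y.z + Nm x.t * y.a ^ 2 + y.a * Tr (sh x.t * y.b) + Tr (x.t * sh y.b) - x.d * y.a
      + Tr (x.c * (y.b + x.t * y.a)) - Nm y.t * x.a ^ 2 - x.a * Tr (sh y.t * x.b) - Tr (y.t * sh x.b)
      + (y.d + Nm x.t * y.a + Tr (sh x.t * y.b) + Tr (x.t * y.c) - Nm y.t * x.a - Tr (sh y.t * x.b)
          - Tr (y.t * x.c)) * x.a
      - Tr ((y.c + sh x.t * y.a + cr x.t y.b - sh y.t * x.a - cr y.t x.b) * (x.b + y.t * x.a)) := by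
  have h1 := congrArg UT.t h
  have h2 := congrArg UT.a h
  have h3 := congrArg UT.b h
  have h4 := congrArg UT.c h
  have h5 := congrArg UT.d h
  have h6 := congrArg UT.z h
  simp only [UT.mul_t, UT.mul_a, UT.mul_b, UT.mul_c, UT.mul_d, UT.mul_z] at h1 h2 h3 h4 h5 h6
  have e1 : w.t = y.t := by linear_combination h1
  have e2 : w.a = y.a := by linear_combination h2
  rw [e1] at h3 h4 h5 h6
  have e3 : w.b = y.b + x.t * y.a - y.t * x.a := by linear_combination h3
  have e4 : w.c = y.c + sh x.t * y.a + cr x.t y.b - sh y.t * x.a - cr y.t x.b := by linear_combination h4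
  have e5 : w.d = y.d + Nm x.t * y.a + Tr (sh x.t * y.b) + Tr (x.t * y.c) - Nm y.t * x.a - Tr (sh y.t * x.b)
      - Tr (y.t * x.c) := by linear_combination h5
  rw [e4, e5] at h6
  refine ⟨e1, e2, e3, e4, e5, ?_⟩
  linear_combination h6

section
variable (x y : UT K)

theorem conj_t : (x * y * x⁻¹).t = y.t := (conj_aux (inv_mul_cancel_right (x * y) x)).1
theorem conj_a : (x * y * x⁻¹).a = y.a := (conj_aux (inv_mul_cancel_right (x * y) x)).2.1
theorem conj_b : (x * y * x⁻¹).b = y.b + x.t * y.a - y.t * x.a :=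
  (conj_aux (inv_mul_cancel_right (x * y) x)).2.2.1
theorem conj_c : (x * y * x⁻¹).c = y.c + sh x.t * y.a + cr x.t y.b - sh y.t * x.a - cr y.t x.b :=
  (conj_aux (inv_mul_cancel_right (x * y) x)).2.2.2.1
theorem conj_d : (x * y * x⁻¹).d = y.d + Nm x.t * y.a + Tr (sh x.t * y.b) + Tr (x.t * y.c) - Nm y.t * x.a
    - Tr (sh y.t * x.b) - Tr (y.t * x.c) :=
  (conj_aux (inv_mul_cancel_right (x * y) x)).2.2.2.2.1
theorem conj_z : (x * y * x⁻¹).z = y.z + Nm x.t * y.a ^ 2 + y.a * Tr (sh x.t * y.b) + Tr (x.t * sh y.b)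
    - x.d * y.a + Tr (x.c * (y.b + x.t * y.a)) - Nm y.t * x.a ^ 2 - x.a * Tr (sh y.t * x.b)
    - Tr (y.t * sh x.b)
    + (y.d + Nm x.t * y.a + Tr (sh x.t * y.b) + Tr (x.t * y.c) - Nm y.t * x.a - Tr (sh y.t * x.b)
        - Tr (y.t * x.c)) * x.a
    - Tr ((y.c + sh x.t * y.a + cr x.t y.b - sh y.t * x.a - cr y.t x.b) * (x.b + y.t * x.a)) :=
  (conj_aux (inv_mul_cancel_right (x * y) x)).2.2.2.2.2

end

/-! ### commutators -/

theorem comm_aux {x y w : UT K} (h : w * (y * x) = x * y) : w.t = 0 ∧ w.a = 0 ∧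
    w.b = x.t * y.a - y.t * x.a ∧
    w.c = sh x.t * y.a + cr x.t y.b - sh y.t * x.a - cr y.t x.b ∧
    w.d = Nm x.t * y.a + Tr (sh x.t * y.b) + Tr (x.t * y.c) - Nm y.t * x.a - Tr (sh y.t * x.b)
      - Tr (y.t * x.c) ∧
    w.z = Nm x.t * y.a ^ 2 + y.a * Tr (sh x.t * y.b) + Tr (x.t * sh y.b) - x.d * y.a
      + Tr (x.c * (y.b + x.t * y.a)) - Nm y.t * x.a ^ 2 - x.a * Tr (sh y.t * x.b) - Tr (y.t * sh x.b)
      + y.d * x.a - Tr (y.c * (x.b + y.t * x.a))
      + (Nm x.t * y.a + Tr (sh x.t * y.b) + Tr (x.t * y.c) - Nm y.t * x.a - Tr (sh y.t * x.b)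
          - Tr (y.t * x.c)) * (x.a + y.a)
      - Tr ((sh x.t * y.a + cr x.t y.b - sh y.t * x.a - cr y.t x.b) * (x.b + y.b + y.t * x.a)) := by
  have h1 := congrArg UT.t h
  have h2 := congrArg UT.a h
  have h3 := congrArg UT.b h
  have h4 := congrArg UT.c h
  have h5 := congrArg UT.d h
  have h6 := congrArg UT.z h
  have e1 : w.t = 0 := by simp only [UT.mul_t] at h1; linear_combination h1
  have e2 : w.a = 0 := by simp only [UT.mul_a] at h2; linear_combination h2
  rw [UT.mul_b, e1, zero_mul, add_zero] at h3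
  rw [UT.mul_c, e1, sh_zero, zero_mul, add_zero, cr_zero_left, add_zero] at h4
  rw [UT.mul_d, e1, sh_zero, Nm_zero, zero_mul, add_zero, zero_mul, Tr_zero, zero_mul, Tr_zero, add_zero,
    add_zero] at h5
  rw [UT.mul_z, e1, Nm_zero, sh_zero, zero_mul, zero_mul, zero_mul, Tr_zero, mul_zero, add_zero, add_zero, add_zero,
    zero_mul, add_zero] at h6
  simp only [UT.mul_a, UT.mul_b, UT.mul_c, UT.mul_d, UT.mul_z] at h3 h4 h5 h6
  have e3 : w.b = x.t * y.a - y.t * x.a := by linear_combination h3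
  have e4 : w.c = sh x.t * y.a + cr x.t y.b - sh y.t * x.a - cr y.t x.b := by linear_combination h4
  have e5 : w.d = Nm x.t * y.a + Tr (sh x.t * y.b) + Tr (x.t * y.c) - Nm y.t * x.a - Tr (sh y.t * x.b)
      - Tr (y.t * x.c) := by linear_combination h5
  rw [e4, e5] at h6
  refine ⟨e1, e2, e3, e4, e5, ?_⟩
  rw [show x.b + y.b + y.t * x.a = y.b + x.b + y.t * x.a by ring]
  linear_combination h6

theorem comm_mul (x y : UT K) : x * y * x⁻¹ * y⁻¹ * (y * x) = x * y := by group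

section
variable (x y : UT K)

theorem comm_t : (x * y * x⁻¹ * y⁻¹).t = 0 := (comm_aux (comm_mul x y)).1
theorem comm_a : (x * y * x⁻¹ * y⁻¹).a = 0 := (comm_aux (comm_mul x y)).2.1
theorem comm_b : (x * y * x⁻¹ * y⁻¹).b = x.t * y.a - y.t * x.a := (comm_aux (comm_mul x y)).2.2.1
theorem comm_c : (x * y * x⁻¹ * y⁻¹).c = sh x.t * y.a + cr x.t y.b - sh y.t * x.a - cr y.t x.b :=
  (comm_aux (comm_mul x y)).2.2.2.1
theorem comm_d : (x * y * x⁻¹ * y⁻¹).d = Nm x.t * y.a + Tr (sh x.t * y.b) + Tr (x.t * y.c) - Nm y.t * x.a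
    - Tr (sh y.t * x.b) - Tr (y.t * x.c) :=
  (comm_aux (comm_mul x y)).2.2.2.2.1
theorem comm_z : (x * y * x⁻¹ * y⁻¹).z = Nm x.t * y.a ^ 2 + y.a * Tr (sh x.t * y.b) + Tr (x.t * sh y.b)
    - x.d * y.a + Tr (x.c * (y.b + x.t * y.a)) - Nm y.t * x.a ^ 2 - x.a * Tr (sh y.t * x.b)
    - Tr (y.t * sh x.b) + y.d * x.a - Tr (y.c * (x.b + y.t * x.a))
    + (Nm x.t * y.a + Tr (sh x.t * y.b) + Tr (x.t * y.c) - Nm y.t * x.a - Tr (sh y.t * x.b)
        - Tr (y.t * x.c)) * (x.a + y.a)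
    - Tr ((sh x.t * y.a + cr x.t y.b - sh y.t * x.a - cr y.t x.b) * (x.b + y.b + y.t * x.a)) :=
  (comm_aux (comm_mul x y)).2.2.2.2.2

theorem commute_iff : x * y = y * x ↔ x.t * y.a = y.t * x.a ∧
    sh x.t * y.a + cr x.t y.b = sh y.t * x.a + cr y.t x.b ∧
    Nm x.t * y.a + Tr (sh x.t * y.b) + Tr (x.t * y.c) = Nm y.t * x.a + Tr (sh y.t * x.b) + Tr (y.t * x.c) ∧
    Nm x.t * y.a ^ 2 + y.a * Tr (sh x.t * y.b) + Tr (x.t * sh y.b) - x.d * y.a + Tr (x.c * (y.b + x.t * y.a)) =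
      Nm y.t * x.a ^ 2 + x.a * Tr (sh y.t * x.b) + Tr (y.t * sh x.b) - y.d * x.a + Tr (y.c * (x.b + y.t * x.a)) := by
  constructor
  · intro h
    have h3 := congrArg UT.b h
    have h4 := congrArg UT.c h
    have h5 := congrArg UT.d h
    have h6 := congrArg UT.z h
    simp only [UT.mul_b, UT.mul_c, UT.mul_d, UT.mul_z] at h3 h4 h5 h6
    refine ⟨?_, ?_, ?_, ?_⟩
    · linear_combination h3
    · linear_combination h4
    · linear_combination h5
    · linear_combination h6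
  · rintro ⟨h3, h4, h5, h6⟩
    ext
    · simp only [UT.mul_t]; ring
    · simp only [UT.mul_a]; ring
    · simp only [UT.mul_b]; linear_combination h3
    · simp only [UT.mul_c]; linear_combination h4
    · simp only [UT.mul_d]; linear_combination h5
    · simp only [UT.mul_z]; linear_combination h6

end

end Cfsg.Agent.H767.TD
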