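import Mathlib

/-!
# S5261: the concrete Sylow `p`-subgroup `UT K` of `³D₄(q)` (helper767)

`K` is a field, `θ` an automorphism with `θ³ = 1`, `F` its fixed field; `Tr x = x + θx + θ²x`, `N t = t·θt·θ²t`,
`t^# = θt·θ²t`, `t × b = θt·θ²b + θ²t·θb`. The elements are `(t; a, b, c, d; z)` with `t, b, c ∈ K`, `a, d, z ∈ F`:
`t ∈ X_α`, `a ∈ X_β`, `b ∈ X_{α+β}`, `c ∈ X_{2α+β}`, `d ∈ X_{3α+β}`, `z ∈ X_{3α+2β}`.
`Q₁ = {t = 0}` is the Heisenberg group of `W = F ⊕ K ⊕ K ⊕ F`.
-/

set_option autoImplicit false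

namespace Cfsg.Agent.H767.TD

universe u

/-- a field automorphism of order dividing 3 -/
class Tri (K : Type u) [Field K] where
  th : K ≃+* K
  th3 : ∀ x, th (th (th x)) = x

section ops
variable {K : Type u} [Field K] [Tri K]

/-- the automorphism -/
def th (x : K) : K := Tri.th x

@[simp] theorem th_add (x y : K) : th (x + y) = th x + th y := map_add _ _ _
@[simp] theorem th_sub (x y : K) : th (x - y) = th x - th y := map_sub _ _ _
@[simp] theorem th_mul (x y : K) : th (x * y) = th x * th y := map_mul _ _ _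
@[simp] theorem th_neg (x : K) : th (-x) = - th x := map_neg _ _
@[simp] theorem th_zero : th (0 : K) = 0 := map_zero _
@[simp] theorem th_one : th (1 : K) = 1 := map_one _
@[simp] theorem th_th_th (x : K) : th (th (th x)) = x := Tri.th3 x
@[simp] theorem th_pow (x : K) (k : ℕ) : th (x ^ k) = th x ^ k := map_pow _ _ _

/-- trace -/
def Tr (x : K) : K := x + th x + th (th x)
/-- norm -/
def Nm (x : K) : K := x * th x * th (th x)
/-- adjoint -/
def sh (x : K) : K := th x * th (th x)
/-- linearized adjoint -/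
def cr (x y : K) : K := th x * th (th y) + th (th x) * th y

end ops

/-- the unipotent group -/
@[ext] structure UT (K : Type u) [Field K] [Tri K] where
  t : K
  a : K
  b : K
  c : K
  d : K
  z : K
  ha : th a = a
  hd : th d = d
  hz : th z = z

namespace UT

variable {K : Type u} [Field K] [Tri K]

instance : Mul (UT K) := ⟨fun x y =>
  { t := x.t + y.t
    a := x.a + y.a
    b := x.b + y.b + x.t * y.a
    c := x.c + y.c + sh x.t * y.a + cr x.t y.b
    d := x.d + y.d + Nm x.t * y.a + Tr (sh x.t * y.b) + Tr (x.t * y.c)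
    z := x.z + y.z + Nm x.t * y.a ^ 2 + y.a * Tr (sh x.t * y.b) + Tr (x.t * sh y.b) - x.d * y.a
      + Tr (x.c * (y.b + x.t * y.a))
    ha := by rw [th_add, x.ha, y.ha]
    hd := by
      have h1 := x.hd
      have h2 := y.hd
      have h3 := y.ha
      simp only [Tr, Nm, sh, th_add, th_mul, th_th_th, h1, h2, h3]
      ring
    hz := by
      have h1 := x.hz
      have h2 := y.hz
      have h3 := y.ha
      have h4 := x.hd
      simp only [Tr, Nm, sh, th_add, th_mul, th_th_th, th_sub, th_pow, h1, h2, h3, h4]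
      ring }⟩

instance : One (UT K) := ⟨{ t := 0, a := 0, b := 0, c := 0, d := 0, z := 0, ha := by simp, hd := by simp, hz := by simp }⟩

instance : Inv (UT K) := ⟨fun x =>
  { t := - x.t
    a := - x.a
    b := - x.b + x.t * x.a
    c := - x.c - sh x.t * x.a + cr x.t x.b
    d := - x.d + Nm x.t * x.a - Tr (sh x.t * x.b) + Tr (x.t * x.c)
    z := - x.z + Nm x.t * x.a ^ 2 - x.a * Tr (sh x.t * x.b) + Tr (x.t * sh x.b)
      + (- x.d + Nm x.t * x.a - Tr (sh x.t * x.b) + Tr (x.t * x.c)) * x.a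
      - Tr ((- x.c - sh x.t * x.a + cr x.t x.b) * (x.b - x.t * x.a))
    ha := by rw [th_neg, x.ha]
    hd := by
      have h1 := x.hd
      have h3 := x.ha
      simp only [Tr, Nm, sh, th_add, th_mul, th_th_th, th_sub, th_neg, h1, h3]
      ring
    hz := by
      have h1 := x.hz
      have h3 := x.ha
      have h4 := x.hd
      simp only [Tr, Nm, sh, cr, th_add, th_mul, th_th_th, th_sub, th_pow, th_neg, h1, h3, h4]
      ring }⟩

@[simp] theorem mul_t (x y : UT K) : (x * y).t = x.t + y.t := rfl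
@[simp] theorem mul_a (x y : UT K) : (x * y).a = x.a + y.a := rfl
@[simp] theorem mul_b (x y : UT K) : (x * y).b = x.b + y.b + x.t * y.a := rfl
theorem mul_c (x y : UT K) : (x * y).c = x.c + y.c + sh x.t * y.a + cr x.t y.b := rfl
theorem mul_d (x y : UT K) : (x * y).d = x.d + y.d + Nm x.t * y.a + Tr (sh x.t * y.b) + Tr (x.t * y.c) := rfl
theorem mul_z (x y : UT K) : (x * y).z = x.z + y.z + Nm x.t * y.a ^ 2 + y.a * Tr (sh x.t * y.b)
    + Tr (x.t * sh y.b) - x.d * y.a + Tr (x.c * (y.b + x.t * y.a)) := rfl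
@[simp] theorem one_t : (1 : UT K).t = 0 := rfl
@[simp] theorem one_a : (1 : UT K).a = 0 := rfl
@[simp] theorem one_b : (1 : UT K).b = 0 := rfl
@[simp] theorem one_c : (1 : UT K).c = 0 := rfl
@[simp] theorem one_d : (1 : UT K).d = 0 := rfl
@[simp] theorem one_z : (1 : UT K).z = 0 := rfl
@[simp] theorem inv_t (x : UT K) : (x⁻¹).t = - x.t := rfl
@[simp] theorem inv_a (x : UT K) : (x⁻¹).a = - x.a := rfl
@[simp] theorem inv_b (x : UT K) : (x⁻¹).b = - x.b + x.t * x.a := rfl
theorem inv_c (x : UT K) : (x⁻¹).c = - x.c - sh x.t * x.a + cr x.t x.b := rfl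
theorem inv_d (x : UT K) : (x⁻¹).d = - x.d + Nm x.t * x.a - Tr (sh x.t * x.b) + Tr (x.t * x.c) := rfl
theorem inv_z (x : UT K) : (x⁻¹).z = - x.z + Nm x.t * x.a ^ 2 - x.a * Tr (sh x.t * x.b) + Tr (x.t * sh x.b)
      + (- x.d + Nm x.t * x.a - Tr (sh x.t * x.b) + Tr (x.t * x.c)) * x.a
      - Tr ((- x.c - sh x.t * x.a + cr x.t x.b) * (x.b - x.t * x.a)) := rfl

instance : Group (UT K) where
  mul_assoc x y z := by
    have hx := x.ha
    have hy := y.ha
    have hz := z.ha
    ext
    · simp only [mul_t]; ring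
    · simp only [mul_a]; ring
    · simp only [mul_b, mul_t, mul_a]; ring
    · simp only [mul_c, mul_b, mul_t, mul_a, sh, cr, th_add, th_mul, hz]
      ring
    · simp only [mul_d, mul_c, mul_b, mul_t, mul_a, sh, cr, Tr, Nm, th_add, th_mul, th_th_th, hz]
      ring
    · simp only [mul_z, mul_d, mul_c, mul_b, mul_t, mul_a, sh, cr, Tr, Nm, th_add, th_mul, th_th_th, th_sub, hy, hz]
      ring
  one_mul x := by
    ext <;> simp [mul_c, mul_d, mul_z, sh, cr, Nm, Tr]
  mul_one x := by
    ext <;> simp [mul_c, mul_d, mul_z, sh, cr, Nm, Tr]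
  inv_mul_cancel x := by
    have hx := x.ha
    ext
    · simp
    · simp
    · simp only [mul_b, inv_b, inv_t, one_b]; ring
    · simp only [mul_c, inv_c, inv_t, one_c, sh, cr, th_neg]; ring
    · simp only [mul_d, inv_d, inv_t, one_d, sh, cr, Tr, Nm, th_neg, th_mul, th_th_th]; ring
    · simp only [mul_z, inv_z, inv_t, inv_d, inv_c, one_z, sh, cr, Tr, Nm, th_neg, th_mul, th_th_th, th_add, th_sub, hx]
      ring

end UT

end Cfsg.Agent.H767.TD
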